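import Cfsg.Agent.TH.Cl.Basic
import Cfsg.Agent.OddHalf.Known

/-!
# S3541, classical socles: the box `BoxSim` (helper23)

A simple normal subgroup of `H` whose lifts span the ring has trivial centraliser in `F.S`; it is a known simple group.
-/

set_option autoImplicit false

namespace Cfsg.Agent.TH.Cl

open Cfsg.Agent.DS.Cl Cfsg.Agent.DS.Cl.Fwd Cfsg.Agent.SB.Cl Cfsg.Agent.DS.Cl.Main Module

namespace Cases

theorem center_eq_bot {X : Type*} [Group X] (hs : IsSimpleGroup X) (hn : ¬ IsMulCommutative X) :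
    Subgroup.center X = ⊥ := by
  rcases (inferInstance : (Subgroup.center X).Normal).eq_bot_or_eq_top with h | h
  · exact h
  · exact absurd ⟨⟨fun a b => Subgroup.mem_center_iff.1 (h ▸ Subgroup.mem_top b) a⟩⟩ hn

/-- a simple normal subgroup of Lie type in characteristic `p` is a component -/
theorem hasOwn_of {G : Type*} [Group G] {H N : Subgroup G} {p : ℕ} (hle : N ≤ H)
    (hn : ∀ h ∈ H, ∀ x ∈ N, h * x * h⁻¹ ∈ N) (hs : IsSimpleGroup N) (hc : ¬ IsMulCommutative N)
    (hl : IsLieTypeChar p N) : HasOwn p H := by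
  let e := Subgroup.subgroupOfEquivOfLe hle
  have hs' : IsSimpleGroup (N.subgroupOf H) := e.isSimpleGroup
  have hc' : ¬ IsMulCommutative (N.subgroupOf H) := fun h => hc ⟨⟨fun a b => by
    apply e.symm.injective
    rw [map_mul, map_mul]
    exact h.is_comm.comm _ _⟩⟩
  have hz := center_eq_bot hs' hc'
  let e' : (N.subgroupOf H ⧸ Subgroup.center (N.subgroupOf H)) ≃* N.subgroupOf H :=
    (QuotientGroup.quotientMulEquivOfEq hz).trans QuotientGroup.quotientBot
  have hN : (N.subgroupOf H).Normal := ⟨fun t ht g => hn g g.2 t ht⟩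
  refine ⟨N.subgroupOf H, ⟨hN.isSubnormal, ⟨?_⟩, e'.isSimpleGroup⟩,
    OddHalf.Known.isLieTypeChar_congr (e'.trans e).symm hl⟩
  rcases (inferInstance : (commutator (N.subgroupOf H)).Normal).eq_bot_or_eq_top with h | h
  · rw [commutator_eq_bot_iff_center_eq_top, hz] at h
    exact absurd h bot_ne_top
  · exact h

/-- the abstract boxes cover all known simple groups -/
theorem false_of_sims (s : Sims) (hK : AllK) {G : Type} [Group G] [Finite G] {T H N : Subgroup G} {m p : ℕ}
    (c : LieCtx T H m p) (o : ¬ HasOwn p H) (hN : Sim T H N) (hT : IsCl p T) : False := by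
  have := hN.simple
  have hl : ¬ IsLieTypeChar p N := fun h =>
    o (hasOwn_of (hN.le.trans inf_le_left) hN.nrm hN.simple hN.nonab h)
  have hc : ¬ Cfsg.IsPrimeCyclic N := fun h => by
    have : Fact (Nat.card N).Prime := ⟨h⟩
    have := isCyclic_of_prime_card (α := N) rfl
    exact hN.nonab inferInstance
  by_cases ha : IsAlternating N
  · obtain ⟨k, h5, e⟩ := ha
    by_cases h22 : k ≤ 22
    · exact s.alt hK G T H N m p c o hN hT ⟨hl, k, h5, h22, e⟩
    · exact s.altBig hK G T H N m p c o hN hT ⟨k, by omega, e⟩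
  rcases H912.Known.known_split (hK N) hc with h | h | h | h
  · exact ha h
  · exact s.lie hK G T H N m p c o hN hT ⟨hl, ha, h⟩
  · exact s.spor hK G T H N m p c o hN hT (Or.inr h)
  · exact s.spor hK G T H N m p c o hN hT (Or.inl h)

variable {A : Type} [Ring A] [StarRing A] [Finite A] {F : FR A} {G H : Subgroup (RingAut A)} {m p : ℕ}

theorem false_of_simD (s : Sims) (c : Ctx F G H m p) (h : SimD F H) (hT : IsCl p (F.S.subgroupOf G)) : False := by
  obtain ⟨-, N, hN, hn, hs, hc, htop⟩ := h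
  have hNG : N ≤ G := (hN.trans inf_le_left).trans c.H_le
  have hNP : N ≤ F.PI := (hN.trans inf_le_right).trans F.S_le_PI
  let e := Subgroup.subgroupOfEquivOfLe hNG
  refine false_of_sims s c.allK c.lie c.nown (N := N.subgroupOf G)
    ⟨fun x hx => hN hx, fun g hg x hx => hn g hg x hx, e.isSimpleGroup, fun h => hc ⟨⟨fun a b => ?_⟩⟩,
      fun t ht h => Subtype.ext ?_⟩ hT
  · apply e.symm.injective
    rw [map_mul, map_mul]
    exact h.is_comm.comm _ _
  · have hl : (t : RingAut A) ∈ Lin A := F.PI_le_Lin (F.S_le_PI ht)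
    refine eq_one_of_fix htop hl ?_
    rintro _ ⟨u, hu, hu', rfl⟩
    exact fix_lifts hNP (perfect_of_simple hs hc) hl
      (fun x hx => congrArg Subtype.val (h ⟨x, hNG hx⟩ hx)) u hu hu'

theorem charP_of_cast {K : Type} [Field K] {p : ℕ} (hp : p.Prime) (h : (p : K) = 0) : CharP K p :=
  have : Fact p.Prime := ⟨hp⟩
  (CharP.charP_iff_prime_eq_zero Fact.out).2 h

theorem cast_LR {K : Type} [Field K] {n p : ℕ} (hn : 1 ≤ n) (h : (p : LR (Fin n) K) = 0) : (p : K) = 0 := by
  have h1 : ((p : LR (Fin n) K).1 : Matrix (Fin n) (Fin n) K) = (p : Matrix (Fin n) (Fin n) K) := rfl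
  have h2 : (p : Matrix (Fin n) (Fin n) K) = 0 := by rw [← h1, h]; rfl
  have h3 := congrFun (congrFun h2 ⟨0, hn⟩) ⟨0, hn⟩
  rwa [Matrix.natCast_apply, if_pos rfl] at h3

theorem cast_EB {K V : Type} [Field K] [AddCommGroup V] [Module K V] (h : HF K V) {p : ℕ} (hV : 1 ≤ finrank K V)
    (hp : (p : h.EB) = 0) : (p : K) = 0 := by
  have : Nontrivial V := Module.nontrivial_of_finrank_pos (R := K) hV
  obtain ⟨v, hv⟩ := exists_ne (0 : V)
  have h1 : (p : Module.End K V) = 0 := hp
  have h2 := LinearMap.congr_fun h1 v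
  rw [Module.End.natCast_apply, ← Nat.cast_smul_eq_nsmul K, LinearMap.zero_apply, smul_eq_zero] at h2
  exact h2.resolve_right hv

end Cases

section kinds

variable {K V : Type} [Field K] [Fintype K] [AddCommGroup V] [Module K V] [Finite V] {m p : ℕ}

theorem KL.charP {n : ℕ} {F : FR (LR (Fin n) K)} {G H : Subgroup (RingAut (LR (Fin n) K))} (k : KL F)
    (c : Ctx F G H m p) : CharP K p :=
  Cases.charP_of_cast c.prime (Cases.cast_LR (by have := k.dim; omega) c.char)

theorem KL.isCl {n : ℕ} {F : FR (LR (Fin n) K)} {G H : Subgroup (RingAut (LR (Fin n) K))} (k : KL F)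
    (c : Ctx F G H m p) : IsCl p (F.S.subgroupOf G) := by
  obtain ⟨e⟩ := k.iso
  have := k.dim
  exact Or.inl ⟨K, inferInstance, inferInstance, k.charP c, n, by omega, fun h => by omega,
    ⟨(Subgroup.subgroupOfEquivOfLe c.S_le).trans e⟩⟩

variable {h : HF K V} {F : FR h.EB} {G H : Subgroup (RingAut h.EB)}

theorem KU.charP {q : ℕ} (k : KU h F q) (c : Ctx F G H m p) : CharP K p :=
  Cases.charP_of_cast c.prime (Cases.cast_EB h (by have := k.dim; omega) c.char)

theorem KSp.charP {j : ℕ} (k : KSp h F j) (c : Ctx F G H m p) : CharP K p :=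
  Cases.charP_of_cast c.prime (Cases.cast_EB h (by have := k.dim; have := k.two; omega) c.char)

theorem KO.charP {Q : QuadraticForm K V} (k : KO h F Q) (c : Ctx F G H m p) : CharP K p :=
  Cases.charP_of_cast c.prime (Cases.cast_EB h (by have := k.dim; omega) c.char)

theorem KU.isCl {q : ℕ} (k : KU h F q) (c : Ctx F G H m p) : IsCl p (F.S.subgroupOf G) := by
  obtain ⟨e⟩ := k.iso
  exact Or.inr (Or.inr (Or.inl ⟨K, inferInstance, inferInstance, k.charP c, _, q, k.card, k.dim, k.ne,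
    ⟨(Subgroup.subgroupOfEquivOfLe c.S_le).trans e⟩⟩))

theorem KSp.isCl {j : ℕ} (k : KSp h F j) (c : Ctx F G H m p) : IsCl p (F.S.subgroupOf G) := by
  obtain ⟨e⟩ := k.iso
  exact Or.inr (Or.inl ⟨K, inferInstance, inferInstance, k.charP c, j, k.two, k.ne,
    ⟨(Subgroup.subgroupOfEquivOfLe c.S_le).trans e⟩⟩)

theorem KO.isCl {Q : QuadraticForm K V} (k : KO h F Q) (c : Ctx F G H m p) : IsCl p (F.S.subgroupOf G) := by
  have := k.dim
  have e0 := Subgroup.subgroupOfEquivOfLe c.S_le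
  rcases k.iso with ⟨j, h1, h2, ⟨e⟩, -⟩ | ⟨j, h1, ⟨e⟩, -⟩ | ⟨j, a, b, h1, h2, ⟨e⟩, -⟩
  · exact Or.inr (Or.inr (Or.inr (Or.inl ⟨K, inferInstance, inferInstance, k.charP c, j, by omega, h2,
      ⟨e0.trans e⟩⟩)))
  · exact Or.inr (Or.inr (Or.inr (Or.inr (Or.inl ⟨K, inferInstance, inferInstance, k.charP c, j, by omega,
      ⟨e0.trans e⟩⟩))))
  · exact Or.inr (Or.inr (Or.inr (Or.inr (Or.inr ⟨K, inferInstance, inferInstance, k.charP c, j, a, b, by omega, h2,
      ⟨e0.trans e⟩⟩))))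

end kinds

/-- **[C-Sim]** -/
theorem boxSim : BoxSim := fun s =>
  ⟨fun _ _ _ _ _ _ _ _ _ k c h => Cases.false_of_simD s c h (k.isCl c),
    fun _ _ _ _ _ _ _ _ _ _ _ _ _ _ k c h => Cases.false_of_simD s c h (k.isCl c),
    fun _ _ _ _ _ _ _ _ _ _ _ _ _ _ k c h => Cases.false_of_simD s c h (k.isCl c),
    fun _ _ _ _ _ _ _ _ _ _ _ _ _ _ k c h => Cases.false_of_simD s c h (k.isCl c)⟩

end Cfsg.Agent.TH.Cl
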