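import Cfsg.Agent.TH.Cl.Cases.ParR
import Cfsg.Agent.SB.Tor.Refl

/-!
# S3541, classical socles: the box `BoxPar` (helper23)
-/

set_option autoImplicit false
set_option linter.unusedSectionVars false

namespace Cfsg.Agent.TH.Cl

open Cfsg.Agent.DS.Cl Cfsg.Agent.DS.Cl.Fwd Cfsg.Agent.SB.Cl Cfsg.Agent.SB.Tor Module Matrix

namespace Cases

/-! ### Linear groups -/

section lin

/-- an idempotent of rank at least two contains a nilpotent element -/
theorem exists_nil_end {K V : Type} [Field K] [AddCommGroup V] [Module K V] [Module.Finite K V] {f : End K V}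
    (hf : f * f = f) (h2 : 2 ≤ finrank K (LinearMap.range f)) :
    ∃ n : End K V, n ≠ 0 ∧ n * n = 0 ∧ f * n = n ∧ n * f = n := by
  have hff : ∀ v, f (f v) = f v := fun v => LinearMap.congr_fun hf v
  have : Nontrivial (LinearMap.range f) := Module.nontrivial_of_finrank_pos (R := K) (by omega)
  obtain ⟨⟨_, v, rfl⟩, hv⟩ := exists_ne (0 : LinearMap.range f)
  have hv0 : f v ≠ 0 := fun h0 => hv (Subtype.ext h0)
  obtain ⟨_, ⟨w, rfl⟩, hw⟩ : ∃ w ∈ LinearMap.range f, w ∉ Submodule.span K {f v} := by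
    by_contra hcon
    push Not at hcon
    have h3 := Submodule.finrank_mono (show LinearMap.range f ≤ Submodule.span K {f v} from hcon)
    rw [finrank_span_singleton hv0] at h3
    omega
  obtain ⟨φ, h1, h3⟩ := Submodule.exists_le_ker_of_notMem hw
  have h4 : φ (f v) = 0 := h3 (Submodule.mem_span_singleton_self _)
  refine ⟨(φ ∘ₗ f).smulRight (f v), fun h0 => ?_, ?_, ?_, ?_⟩
  · have h5 := LinearMap.congr_fun h0 w
    rw [LinearMap.smulRight_apply, LinearMap.zero_apply, smul_eq_zero] at h5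
    exact h5.elim h1 hv0
  · ext x
    simp [hff, h4]
  · ext x
    simp [hff]
  · ext x
    simp [hff]

variable {K : Type} [Field K] {n : ℕ}

theorem exists_nil_mat (h3 : 3 ≤ n) {f : Matrix (Fin n) (Fin n) K} (hf : f * f = f) :
    ∃ y : Matrix (Fin n) (Fin n) K, y ≠ 0 ∧ y * y = 0 ∧
      ((f * y = y ∧ y * f = y) ∨ ((1 - f) * y = y ∧ y * (1 - f) = y)) := by
  let φ := Matrix.toLinAlgEquiv' (n := Fin n) (R := K)
  have key : ∀ g : Matrix (Fin n) (Fin n) K, g * g = g → 2 ≤ finrank K (LinearMap.range (φ g)) →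
      ∃ y : Matrix (Fin n) (Fin n) K, y ≠ 0 ∧ y * y = 0 ∧ g * y = y ∧ y * g = y := fun g hg h2 => by
    obtain ⟨y, h1, h4, h5, h6⟩ := exists_nil_end (f := φ g) (by rw [← map_mul, hg]) h2
    obtain ⟨y, rfl⟩ := φ.surjective y
    rw [← map_mul] at h4 h5 h6
    exact ⟨y, fun h0 => h1 (by rw [h0, map_zero]), φ.injective (h4.trans (map_zero φ).symm), φ.injective h5,
      φ.injective h6⟩
  have h1 : LinearMap.range (φ f) ⊔ LinearMap.range (φ (1 - f)) = ⊤ := eq_top_iff.2 fun v _ =>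
    Submodule.mem_sup.2 ⟨_, ⟨v, rfl⟩, _, ⟨v, rfl⟩, by
      rw [← LinearMap.add_apply, ← map_add, add_sub_cancel, map_one, End.one_apply]⟩
  have h2 := Submodule.finrank_add_le_finrank_add_finrank (LinearMap.range (φ f)) (LinearMap.range (φ (1 - f)))
  rw [h1, finrank_top, Module.finrank_fin_fun] at h2
  by_cases h4 : 2 ≤ finrank K (LinearMap.range (φ f))
  · obtain ⟨y, a1, a2, a3⟩ := key f hf h4
    exact ⟨y, a1, a2, Or.inl a3⟩
  · obtain ⟨y, a1, a2, a3⟩ := key (1 - f) (by rw [mul_sub, mul_one, sub_mul, one_mul, hf, sub_self, sub_zero])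
      (by omega)
    exact ⟨y, a1, a2, Or.inr a3⟩

theorem prime_mat {a b : Matrix (Fin n) (Fin n) K} (ha : a ≠ 0) (hb : b ≠ 0) : ∃ c, a * c * b ≠ 0 := by
  obtain ⟨i, j, h1⟩ : ∃ i j, a i j ≠ 0 := by
    by_contra hcon
    push Not at hcon
    exact ha (Matrix.ext hcon)
  obtain ⟨k, l, h2⟩ : ∃ i j, b i j ≠ 0 := by
    by_contra hcon
    push Not at hcon
    exact hb (Matrix.ext hcon)
  refine ⟨Matrix.single j k 1, fun h0 => mul_ne_zero h1 h2 ?_⟩
  have h3 := congrFun (congrFun h0 i) l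
  rw [Matrix.mul_apply, Finset.sum_eq_single k (fun x _ hx => by
    rw [Matrix.mul_single_apply_of_ne _ _ _ _ _ hx, zero_mul]) (fun h => absurd (Finset.mem_univ _) h),
    Matrix.mul_single_apply_same, mul_one] at h3
  exact h3

theorem two_mat (h3 : 3 ≤ n) {f : Matrix (Fin n) (Fin n) K} (hf : f * f = f) (h0 : f ≠ 0) (h1 : 1 - f ≠ 0) :
    ∃ x y : Matrix (Fin n) (Fin n) K, f * x = x ∧ x * f = 0 ∧ y * y = 0 ∧ x * y ≠ y * x ∧
      ((f * y = y ∧ y * f = y) ∨ (f * y = 0 ∧ y * f = 0)) := by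
  have hf' : (1 - f) * f = 0 := by rw [sub_mul, one_mul, hf, sub_self]
  obtain ⟨y, y0, y1, ⟨y2, y3⟩ | ⟨y2, y3⟩⟩ := exists_nil_mat h3 hf
  · obtain ⟨c, hc⟩ := prime_mat y0 h1
    refine ⟨f * c * (1 - f), y, by rw [← mul_assoc, ← mul_assoc, hf], by rw [mul_assoc, hf', mul_zero], y1,
      fun e => hc ?_, Or.inl ⟨y2, y3⟩⟩
    rw [← mul_assoc, ← mul_assoc, y3] at e
    rw [← e, ← y2, ← mul_assoc, mul_assoc _ _ f, hf', mul_zero, zero_mul]
  · obtain ⟨c, hc⟩ := prime_mat h0 y0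
    have y4 : y * f = 0 := by rw [← y3, mul_assoc, hf', mul_zero]
    refine ⟨f * c * (1 - f), y, by rw [← mul_assoc, ← mul_assoc, hf], by rw [mul_assoc, hf', mul_zero], y1,
      fun e => hc ?_, Or.inr ⟨by rw [← y2, ← mul_assoc, mul_sub, mul_one, hf, sub_self, zero_mul], y4⟩⟩
    rw [mul_assoc, y2] at e
    rw [e, ← mul_assoc, ← mul_assoc, y4, zero_mul, zero_mul]

/-- an element of the radical and an element of the parabolic subgroup which do not commute -/
theorem flag_mat (h3 : 3 ≤ n) {a b : Matrix (Fin n) (Fin n) K} (aa : a * a = a) (bb : b * b = b) (ab : a * b = 0)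
    (ba : b * a = 0) (h : (a ≠ 0 ∧ a ≠ 1) ∨ (b ≠ 0 ∧ b ≠ 1)) :
    ∃ x y : Matrix (Fin n) (Fin n) K, x * x = 0 ∧ y * y = 0 ∧ x * y ≠ y * x ∧ a * x = 0 ∧ x * b = 0 ∧
      (1 - b) * x * (1 - a) = 0 ∧ a * y * (1 - a) = 0 ∧ (1 - b) * y * b = 0 := by
  have sq : ∀ f x : Matrix (Fin n) (Fin n) K, f * x = x → x * f = 0 → x * x = 0 := fun f x h1 h2 => by
    nth_rewrite 2 [← h1]
    rw [← mul_assoc, h2, zero_mul]
  by_cases hb : b = 0
  · subst hb
    have ha := h.resolve_right fun h => h.1 rfl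
    obtain ⟨x, y, x1, x2, y1, xy, hy⟩ := two_mat h3 (f := 1 - a)
      (by rw [mul_sub, mul_one, sub_mul, one_mul, aa, sub_self, sub_zero]) (sub_ne_zero.2 ha.2.symm)
      (by rw [sub_sub_cancel]; exact ha.1)
    have h4 : a * (1 - a) = 0 := by rw [mul_sub, mul_one, aa, sub_self]
    refine ⟨x, y, sq _ x x1 x2, y1, xy, by rw [← x1, ← mul_assoc, h4, zero_mul], mul_zero _,
      by rw [mul_assoc, x2, mul_zero], ?_, mul_zero _⟩
    rcases hy with hy | hy
    · rw [← hy.1, ← mul_assoc, h4, zero_mul, zero_mul]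
    · rw [mul_assoc, hy.2, mul_zero]
  have h4 : (1 - b) * b = 0 := by rw [sub_mul, one_mul, bb, sub_self]
  by_cases hab : a = 0 ∨ a = 1 - b
  · have hb1 : 1 - b ≠ 0 := fun e => by
      rcases h with h | h
      · rcases hab with h5 | h5
        · exact h.1 h5
        · exact h.1 (h5.trans e)
      · exact h.2 (sub_eq_zero.1 e).symm
    obtain ⟨x, y, x1, x2, y1, xy, hy⟩ := two_mat h3 bb hb hb1
    refine ⟨x, y, sq _ x x1 x2, y1, xy, by rw [← x1, ← mul_assoc, ab, zero_mul], x2,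
      by rw [← x1, ← mul_assoc, h4, zero_mul, zero_mul], ?_, ?_⟩
    · rcases hab with h5 | h5
      · rw [h5, zero_mul, zero_mul]
      · rcases hy with hy | hy
        · rw [← hy.1, ← mul_assoc, ab, zero_mul, zero_mul]
        · rw [h5, sub_sub_cancel, mul_assoc, hy.2, mul_zero]
    · rcases hy with hy | hy
      · rw [← hy.1, ← mul_assoc, h4, zero_mul, zero_mul]
      · rw [mul_assoc, hy.2, mul_zero]
  push Not at hab
  obtain ⟨g, hg⟩ : ∃ g, g = 1 - a - b := ⟨_, rfl⟩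
  have g0 : g ≠ 0 := fun e => hab.2 (by rw [hg, sub_right_comm, sub_eq_zero] at e; exact e.symm)
  have ag : a * g = 0 := by rw [hg, mul_sub, mul_sub, mul_one, aa, ab, sub_self, sub_zero]
  have gb : g * b = 0 := by rw [hg, sub_mul, sub_mul, one_mul, bb, ab, sub_zero, sub_self]
  have gg : g * g = g := by
    nth_rewrite 2 [hg]
    rw [mul_sub, mul_sub, mul_one, gb, sub_zero]
    nth_rewrite 2 [hg]
    rw [sub_mul, sub_mul, one_mul, aa, ba, sub_self, sub_zero, sub_zero]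
  obtain ⟨c, hc⟩ := prime_mat hb g0
  obtain ⟨d, hd⟩ := prime_mat hc hab.1
  refine ⟨b * c * g, g * d * a, ?_, ?_, fun e => hd ?_, ?_, ?_, ?_, ?_, ?_⟩
  · rw [mul_assoc _ g, ← mul_assoc g, ← mul_assoc g, gb, zero_mul, zero_mul, mul_zero]
  · rw [mul_assoc _ a, ← mul_assoc a, ← mul_assoc a, ag, zero_mul, zero_mul, mul_zero]
  · rw [mul_assoc _ a, ← mul_assoc a, ← mul_assoc a, ab, zero_mul, zero_mul, mul_zero, ← mul_assoc, ← mul_assoc,
      mul_assoc _ g g, gg] at e
    exact e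
  · rw [← mul_assoc, ← mul_assoc, ab, zero_mul, zero_mul]
  · rw [mul_assoc, gb, mul_zero]
  · rw [← mul_assoc, ← mul_assoc, h4, zero_mul, zero_mul, zero_mul]
  · rw [← mul_assoc, ← mul_assoc, ag, zero_mul, zero_mul, zero_mul]
  · rw [mul_assoc, mul_assoc, ab, mul_zero, mul_zero]

theorem L_eq_LR (F : FR (LR (Fin n) K)) : F.L = Lmax _ := by
  refine F.L_eq (c := LR.mk 1 0) (Subring.mem_center_iff.2 fun g => ?_) LR.half
  obtain ⟨a, b, rfl⟩ := LR.exists_mk g
  rw [LR.mk_mul, LR.mk_mul, mul_one, one_mul, mul_zero, zero_mul]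

theorem mk_eq_zero {a b : Matrix (Fin n) (Fin n) K} : (LR.mk a b : LR (Fin n) K) = 0 ↔ a = 0 ∧ b = 0 :=
  ⟨fun h => ⟨congrArg Prod.fst h, congrArg Prod.snd h⟩, fun h => by rw [h.1, h.2, LR.zero_eq]⟩

theorem par_LR (h3 : 3 ≤ n) {F : FR (LR (Fin n) K)} {e : LR (Fin n) K} (he : Hyp F e) (h0 : e ≠ 0)
    (h1 : ¬ ∀ a, e * a * (1 - e) = 0) (h : PC F e) : False := by
  obtain ⟨a, b, rfl⟩ := LR.exists_mk e
  obtain ⟨b, rfl⟩ : ∃ b', b = b'ᵀ := ⟨bᵀ, rfl⟩
  have i1 : a * a = a := congrArg Prod.fst he.idem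
  have i2 : b * b = b := congrArg Prod.fst he.sidem
  have i3 : a * b = 0 := congrArg Prod.fst he.ms
  have i4 : b * a = 0 := congrArg Prod.fst he.sm
  have hnil : ∀ x : Matrix (Fin n) (Fin n) K, x * x = 0 → Nil F (LR.mk x 0) := fun x hx =>
    Nil.of_max (L_eq_LR F) (by rw [LR.mk_mul, hx, mul_zero, LR.zero_eq])
      (by rw [LR.star_mk, LR.mk_mul, Matrix.transpose_zero, mul_zero, zero_mul, LR.zero_eq])
      (by rw [LR.star_mk, LR.mk_mul, Matrix.transpose_zero, mul_zero, zero_mul, LR.zero_eq])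
  have hval : ∀ x hx, ((hnil x hx).unit : LR (Fin n) K) = LR.mk (1 + x) (1 - xᵀ) := fun x hx => by
    rw [Nil.unit_val, LR.star_mk, LR.mk_sub, LR.one_eq, LR.mk_add, Matrix.transpose_zero, sub_zero, zero_sub,
      sub_eq_add_neg]
  obtain ⟨x, y, x1, y1, xy, c1, c2, c3, c4, c5⟩ := flag_mat h3 i1 i2 i3 i4 (by
    by_contra hcon
    simp only [not_or, not_and_or, not_not] at hcon
    refine h1 fun z => ?_
    obtain ⟨z, z', rfl⟩ := LR.exists_mk z
    rw [LR.one_eq, LR.mk_sub, LR.mk_mul, LR.mk_mul, mk_eq_zero]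
    constructor
    · rcases hcon.1 with h2 | h2 <;> simp [h2]
    · rcases hcon.2 with h2 | h2 <;> simp [h2])
  have h2 := h _ (hnil y y1).unit_mem _ (hnil x x1).unit_mem (by
      rw [hval y y1, LR.one_eq, LR.mk_sub, LR.mk_mul, LR.mk_mul, mk_eq_zero]
      constructor
      · rw [mul_add, add_mul, c4, mul_one, mul_sub, mul_one, i1, sub_self, add_zero]
      · apply Matrix.transpose_injective
        simp only [Matrix.transpose_mul, Matrix.transpose_sub, Matrix.transpose_one, Matrix.transpose_transpose,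
          Matrix.transpose_zero]
        rw [sub_mul 1 y, mul_sub (1 - b), ← mul_assoc _ y, c5, one_mul, sub_mul, one_mul, i2, sub_self, sub_zero])
    (by
      rw [hval x x1, LR.one_eq, LR.mk_sub, LR.mk_mul, mk_eq_zero, add_sub_cancel_left, sub_sub_cancel_left, mul_neg,
        ← Matrix.transpose_mul, c2, Matrix.transpose_zero, neg_zero]
      exact ⟨c1, rfl⟩)
    (by
      rw [hval x x1, LR.star_mk, LR.one_eq, LR.mk_sub, LR.mk_sub, LR.mk_sub, LR.mk_mul, LR.mk_mul, mk_eq_zero,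
        add_sub_cancel_left, sub_sub_cancel_left, Matrix.transpose_transpose]
      refine ⟨c3, Matrix.transpose_injective ?_⟩
      simp only [Matrix.transpose_mul, Matrix.transpose_sub, Matrix.transpose_one, Matrix.transpose_transpose,
        Matrix.transpose_zero, Matrix.transpose_neg]
      rw [neg_mul, mul_neg, ← mul_assoc, c3, neg_zero])
  rw [hval x x1, hval y y1, LR.mk_mul, LR.mk_mul] at h2
  have h4 : (1 + y) * (1 + x) = (1 + x) * (1 + y) := congrArg Prod.fst h2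
  refine xy ?_
  calc x * y = (1 + x) * (1 + y) - (1 + x + y) := by noncomm_ring
    _ = y * x := by rw [← h4]; noncomm_ring

end lin

/-! ### Forms -/

section hf

variable {K V : Type} [Field K] [Finite K] [AddCommGroup V] [Module K V] [Finite V] {h : HF K V} {F : FR h.EB}
  {e : h.EB}

theorem prime_hf {a b : h.EB} (ha : a ≠ 0) (hb : b ≠ 0) : ∃ c, a * c * b ≠ 0 := by
  obtain ⟨u, hu⟩ : ∃ u, h.ap a u ≠ 0 := by
    by_contra hcon
    push Not at hcon
    exact ha (h.ap_ext hcon)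
  obtain ⟨x, hx⟩ : ∃ x, h.ap b x ≠ 0 := by
    by_contra hcon
    push Not at hcon
    exact hb (h.ap_ext hcon)
  obtain ⟨w, hw⟩ := h.exists_ne hx
  refine ⟨h.eb (h.ro u w), fun h0 => ?_⟩
  have h1 : h.ap (a * h.eb (h.ro u w) * b) x = 0 := by rw [h0]; rfl
  rw [h.ap_mul, h.ap_mul, h.ap_eb, h.ro_apply, map_smul, smul_eq_zero] at h1
  exact h1.elim (h.ne_swap hw) hu

/-- no isometry is supported on the non-degenerate part -/
theorem PC.qr (hp : PC F e) (he : Hyp F e) (h0 : e ≠ 0) {g : h.EBˣ} (hg : g ∈ F.Iso) {κ : K} {v : V}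
    (hv : (g : h.EB) = qr h κ v) (h1 : h.ap e v = 0) (h2 : h.ap (star e) v = 0) : κ = 0 ∨ v = 0 := by
  have h3 : ∀ x, h.ap ((g : h.EB) - 1) x = -(κ * h.b x v) • v := fun x => by
    rw [h.ap_sub, hv, ap_qr, h.ap_one, sub_sub_cancel_left, neg_smul]
  by_contra hcon
  push Not at hcon
  have h4 : (g : h.EB) - 1 ≠ 0 := fun h5 => by
    obtain ⟨x, hx⟩ := h.exists_ne hcon.2
    have h6 := h3 x
    rw [h5, ap_zero, eq_comm, smul_eq_zero, neg_eq_zero] at h6
    exact h6.elim (mul_ne_zero hcon.1 hx) hcon.2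
  obtain ⟨c, hc⟩ := prime_hf h4 h0
  refine hc (hp.levi he hg (h.ap_ext fun x => ?_) (h.ap_ext fun x => ?_) (h.ap_ext fun x => ?_) c)
  · rw [h.ap_mul, h3, map_smul, h1, smul_zero, ap_zero]
  · rw [h.ap_mul, h3, ← h.b_star, h2, h.zero_right, mul_zero, neg_zero, zero_smul, ap_zero]
  · rw [h.ap_mul, h3, h.star_b, h1, h.zero_right, mul_zero, neg_zero, zero_smul, ap_zero]

/-- the centre of the radical -/
theorem PC.vec (hp : PC F e) (he : Hyp F e) {u : h.EBˣ} (hu : u ∈ F.Iso) (h1 : star e * ((u : h.EB) - 1) = u - 1)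
    (h2 : ((u : h.EB) - 1) * e = u - 1) {w y : V} (hw : h.ap (star e) w = w) (h0 : w ≠ 0) (hy : h.b y w = 0) :
    h.ap ((u : h.EB) - 1) y ∈ Submodule.span K {w} := by
  have h3 : h.b (h.ap e y) w = 0 := by rw [← h.b_star, hw, hy]
  have h4 := hp.cen he hu h1 h2 (n := h.eb (h.ro (h.ap e y) w)) (h.ap_ext fun x => by
      rw [h.ap_mul, h.ap_eb, h.ro_apply, map_smul, ← h.ap_mul, he.idem])
    (h.ap_ext fun x => by rw [h.ap_mul, h.ap_eb, h.ro_apply, h.ro_apply, ← h.b_star, hw])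
    (h.ap_ext fun x => by
      rw [h.ap_mul, h.ap_eb, h.ro_apply, h.ro_apply, h.smul_left, h3, mul_zero, zero_smul, ap_zero])
  obtain ⟨z, hz⟩ := h.exists_ne h0
  have h5 := congrArg (fun a => h.ap a z) h4
  simp only [← neg_mul, h.ap_mul, h.ap_eb, h.ro_apply, map_smul] at h5
  rw [← h.ap_mul, h2, ← star_neg] at h5
  have h6 : -h.eb (h.ro (h.ap e y) w) = h.eb (h.ro (-h.ap e y) w) := h.ap_ext fun x => by
    rw [h.ap_eb, h.ro_apply, smul_neg]; rfl
  rw [h6, ap_star_ro] at h5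
  rw [← Submodule.smul_mem_iff _ hz, h5]
  exact Submodule.smul_mem _ _ (Submodule.mem_span_singleton_self w)

theorem exists_perp {X : Submodule K V} {v : V} (hv : v ∉ X) : ∃ y, (∀ x ∈ X, h.b y x = 0) ∧ h.b y v ≠ 0 := by
  obtain ⟨φ, h1, h2⟩ := Submodule.exists_le_ker_of_notMem hv
  obtain ⟨y, hy⟩ := h.exists_rep φ
  exact ⟨y, fun x hx => by rw [h.swap, hy, h2 hx, map_zero, mul_zero], h.ne_swap (by rw [hy]; exact h1)⟩

/-- a maximal totally isotropic subspace has half the dimension -/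
theorem dim_le (h1 : 1 - e - star e = 0) : finrank K V ≤ 2 * finrank K (LinearMap.range (h.ap (star e))) := by
  have : Module.Finite K V := Module.Finite.of_finite
  let W := LinearMap.range (h.ap (star e))
  let c := Module.finBasis K W
  let f : V →ₗ[K] (Fin (finrank K W) → K) := LinearMap.pi fun i => h.lin (c i)
  have h2 : LinearMap.ker f ≤ W := fun y hy => by
    have h3 : ∀ w : W, h.b w y = 0 := fun w => LinearMap.congr_fun
      (c.ext (f₁ := (h.lin y).comp W.subtype) (f₂ := 0) fun i => by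
        have h4 : h.b y (c i) = 0 := congrFun hy i
        change h.b (c i) y = 0
        rw [h.swap, h4, map_zero, mul_zero]) w
    have h4 : h.ap e y = 0 := h.nondeg _ fun x => by rw [← h.star_b]; exact h3 ⟨_, x, rfl⟩
    refine ⟨y, ?_⟩
    rw [← sub_eq_zero.1 h1, h.ap_sub, h.ap_one, h4, sub_zero]
  have h3 := LinearMap.finrank_range_add_finrank_ker f
  have h4 := Submodule.finrank_mono h2
  have h5 := Submodule.finrank_le (LinearMap.range f)
  rw [Module.finrank_fin_fun] at h5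
  change finrank K V ≤ 2 * finrank K W
  omega

theorem exists_notMem (he : Hyp F e) {s : Finset V} (hs : s.card < finrank K (LinearMap.range (h.ap (star e)))) :
    ∃ w, h.ap (star e) w = w ∧ w ∉ Submodule.span K (s : Set V) := by
  have : Module.Finite K V := Module.Finite.of_finite
  by_contra hcon
  push Not at hcon
  have h1 : LinearMap.range (h.ap (star e)) ≤ Submodule.span K (s : Set V) := by
    rintro _ ⟨x, rfl⟩
    exact hcon _ (by rw [← h.ap_mul, he.sidem])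
  have h2 := (Submodule.finrank_mono h1).trans (finrank_span_finset_le_card s)
  omega

theorem b_W (he : Hyp F e) {w w' : V} (hw : h.ap (star e) w = w) (hw' : h.ap (star e) w' = w') : h.b w w' = 0 := by
  rw [← hw, h.star_b, ← hw', ← h.ap_mul, he.ms, ap_zero, h.zero_right]

/-- a vector of the non-degenerate part -/
theorem exists_mid (he : Hyp F e) (h1 : 1 - e - star e ≠ 0) :
    ∃ u v, h.b u v ≠ 0 ∧ (h.ap e u = 0 ∧ h.ap (star e) u = 0) ∧ h.ap e v = 0 ∧ h.ap (star e) v = 0 := by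
  obtain ⟨v, hv, hv0⟩ := exists_fix he.e0_idem h1
  obtain ⟨u, hu⟩ := h.exists_ne hv0
  have h2 : ∀ x, h.ap e (h.ap (1 - e - star e) x) = 0 ∧ h.ap (star e) (h.ap (1 - e - star e) x) = 0 := fun x => by
    rw [← h.ap_mul, ← h.ap_mul]
    constructor
    · rw [show e * (1 - e - star e) = 0 by simp [mul_sub, he.idem, he.ms], ap_zero]
    · rw [show star e * (1 - e - star e) = 0 by simp [mul_sub, he.sidem, he.sm], ap_zero]
  refine ⟨h.ap (1 - e - star e) u, v, ?_, h2 u, hv ▸ h2 v⟩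
  rwa [← h.b_star, Hyp.e0_star, hv]

/-- transvections in the centre of the radical -/
theorem false_of_tv (hp : PC F e) (he : Hyp F e) (h1 : 1 - e - star e = 0) (h3 : 3 ≤ finrank K V) {κ : K}
    (hκ : κ ≠ 0) (hq : ∀ w, h.b w w = 0 → ∃ u ∈ F.Iso, (u : h.EB) = qr h κ w) : False := by
  classical
  have h2 := dim_le h1
  obtain ⟨w, hw, hw0⟩ := exists_notMem he (s := ∅) (by rw [Finset.card_empty]; omega)
  obtain ⟨w', hw', hww⟩ := exists_notMem he (s := {w}) (by rw [Finset.card_singleton]; omega)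
  rw [Finset.coe_singleton] at hww
  obtain ⟨y, hy, hy'⟩ := exists_perp (h := h) hww
  obtain ⟨u, hu, huw⟩ := hq w' (b_W he hw' hw')
  have h4 : ∀ x, h.ap ((u : h.EB) - 1) x = -(κ * h.b x w') • w' := fun x => by
    rw [h.ap_sub, huw, ap_qr, h.ap_one, sub_sub_cancel_left, neg_smul]
  have h5 := hp.vec he hu (h.ap_ext fun x => by rw [h.ap_mul, h4, map_smul, hw'])
    (h.ap_ext fun x => by rw [h.ap_mul, h4, h4, ← h.b_star, hw']) hw
    (fun h0 => hw0 (by rw [h0]; exact Submodule.zero_mem _)) (hy w (Submodule.mem_span_singleton_self w))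
  rw [h4, Submodule.smul_mem_iff _ (neg_ne_zero.2 (mul_ne_zero hκ hy'))] at h5
  exact hww h5

theorem tv_U (hU : IsU h) (hL : F.L = Lmax _) {κ : K} {v : V} (hκ : κ + h.τ κ = κ * h.τ κ * h.b v v) :
    ∃ u ∈ F.Iso, (u : h.EB) = qr h κ v :=
  ⟨isoU h _ (qr_form h hU.1 hκ), mem_Iso_max hL (isoU_ms h _ _), rfl⟩

theorem alt_Sp (hb : ∀ v, h.b v v = 0) (u v : V) : h.b u v = -h.b v u := by
  have h1 := hb (u + v)
  rw [h.add_left, h.add_right, h.add_right, hb, hb] at h1
  linear_combination h1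

theorem tv_Sp (hS : IsSp h F) (κ : K) (v : V) : ∃ u ∈ F.Iso, (u : h.EB) = qr h κ v := by
  refine ⟨isoU h (qr h κ v) fun x y => ?_, mem_Iso_max hS.2.2 (isoU_ms h _ _), rfl⟩
  rw [ap_qr, ap_qr, h.sub_left, h.sub_right, h.sub_right, h.smul_left, h.smul_left, h.smul_right, h.smul_right,
    hS.1, hS.2.1, alt_Sp hS.2.1 v y]
  ring

theorem par_U (hU : IsU h) (hL : F.L = Lmax _) (h3 : 3 ≤ finrank K V) (he : Hyp F e) (h0 : e ≠ 0) (hp : PC F e) :
    False := by
  obtain ⟨d, hd⟩ := hU.2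
  have hd0 : d ≠ 0 := fun h1 => hd (by rw [h1, map_zero])
  have hd1 : h.τ d ≠ 0 := (map_ne_zero h.τ).2 hd0
  by_cases h1 : 1 - e - star e = 0
  · refine false_of_tv hp he h1 h3 (κ := d - h.τ d) (sub_ne_zero.2 hd.symm) fun w hw => tv_U hU hL ?_
    rw [hw, map_sub, h.τ_τ]
    ring
  obtain ⟨u, v, huv, hu, hv⟩ := exists_mid he h1
  have hv0 : v ≠ 0 := fun h2 => huv (by rw [h2, h.zero_right])
  by_cases hvv : h.b v v = 0
  · obtain ⟨g, hg, hgv⟩ := tv_U hU hL (κ := d - h.τ d) (v := v) (by rw [hvv, map_sub, h.τ_τ]; ring)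
    exact (hp.qr he h0 hg hgv hv.1 hv.2).elim (sub_ne_zero.2 hd.symm) hv0
  · have h2 : h.τ (h.b v v) = h.b v v := by
      have h4 := h.swap v v
      rw [hU.1, one_mul] at h4
      exact h4.symm
    obtain ⟨g, hg, hgv⟩ := tv_U hU hL (κ := (1 - d / h.τ d) / h.b v v) (v := v) (by
      rw [map_div₀, map_sub, map_div₀, map_one, h.τ_τ, h2]
      field_simp
      ring)
    refine (hp.qr he h0 hg hgv hv.1 hv.2).elim (div_ne_zero (sub_ne_zero.2 fun h4 => hd ?_) hvv) hv0
    rw [eq_div_iff hd1, one_mul] at h4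
    exact h4

theorem par_Sp (hS : IsSp h F) (h3 : 3 ≤ finrank K V) (he : Hyp F e) (h0 : e ≠ 0) (hp : PC F e) : False := by
  by_cases h1 : 1 - e - star e = 0
  · exact false_of_tv hp he h1 h3 one_ne_zero fun w _ => tv_Sp hS 1 w
  obtain ⟨u, v, huv, hu, hv⟩ := exists_mid he h1
  obtain ⟨g, hg, hgv⟩ := tv_Sp hS 1 v
  exact (hp.qr he h0 hg hgv hv.1 hv.2).elim one_ne_zero fun h2 => huv (by rw [h2, h.zero_right])

theorem par_O {Q : QuadraticForm K V} (hO : IsO h F Q) (h5 : 5 ≤ finrank K V) (he : Hyp F e) (h0 : e ≠ 0)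
    (hp : PC F e) : False := by
  classical
  by_cases h1 : 1 - e - star e = 0
  · have h2 := dim_le h1
    obtain ⟨w, hw, hw0⟩ := exists_notMem he (s := ∅) (by rw [Finset.card_empty]; omega)
    obtain ⟨w₁, hw₁, h3⟩ := exists_notMem he (s := {w}) (by rw [Finset.card_singleton]; omega)
    obtain ⟨w₂, hw₂, h4⟩ := exists_notMem he (s := {w, w₁}) (lt_of_le_of_lt Finset.card_le_two (by omega))
    rw [Finset.coe_singleton] at h3
    obtain ⟨y, hy, hy'⟩ := exists_perp (h := h) h4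
    have hQ : ∀ x, h.ap (star e) x = x → h.b x (h.ap F.l x) = 0 := fun x hx => by
      have h6 := (mem_L_O hO _).1 he.q1
      have h7 : ∀ z, h.b (h.ap (star e) z) (h.ap F.l (h.ap (star e) z)) = 0 := fun z => by
        rw [h.star_b, ← h.ap_mul, ← h.ap_mul]
        exact h6 z
      rw [← hx]
      exact h7 x
    have hn := nil_ro h F (b_W he hw₁ hw₁) (b_W he hw₂ hw₂) (b_W he hw₁ hw₂) (Or.inr ⟨hQ _ hw₁, hQ _ hw₂⟩)
    have h6 : ∀ x, h.ap ((hn.unit : h.EB) - 1) x = h.b x w₂ • w₁ - h.b x w₁ • w₂ := fun x => by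
      rw [hn.unit_val, add_sub_cancel_left, h.ap_sub, ap_star_ro, h.ap_eb, h.ro_apply, hO.1, O_symm hO w₁]
    have h7 := hp.vec he hn.unit_mem (h.ap_ext fun x => by rw [h.ap_mul, h6, map_sub, map_smul, map_smul, hw₁, hw₂])
      (h.ap_ext fun x => by rw [h.ap_mul, h6, h6, ← h.b_star, ← h.b_star, hw₁, hw₂]) hw
      (fun h0 => hw0 (by rw [h0]; exact Submodule.zero_mem _)) (hy w (Submodule.subset_span (by simp)))
    rw [h6, hy w₁ (Submodule.subset_span (by simp)), zero_smul, sub_zero, Submodule.smul_mem_iff _ hy'] at h7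
    exact h3 h7
  obtain ⟨u, v, huv, hu, hv⟩ := exists_mid he h1
  have key : ∀ x, h.ap e x = 0 → h.ap (star e) x = 0 → Q x = 0 := fun x a1 a2 => by
    by_contra hx
    obtain ⟨g, hg, hgv⟩ := exists_reflU hO hx
    exact (hp.qr he h0 hg hgv a1 a2).elim (inv_ne_zero hx) fun h2 => hx (by rw [h2, map_zero])
  have h2 := O_add hO u v
  rw [key u hu.1 hu.2, key v hv.1 hv.2, key _ (by rw [map_add, hu.1, hv.1, add_zero])
    (by rw [map_add, hu.2, hv.2, add_zero]), zero_add, zero_add] at h2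
  exact huv h2.symm

end hf

end Cases

open Cases in
/-- **[C-Par]** -/
theorem boxPar : BoxPar := by
  refine ⟨fun K _ _ n F G H m p k c h => ?_, fun K V _ _ _ _ _ f F q G H m p k c h => ?_,
    fun K V _ _ _ _ _ f F q G H m p k c h => ?_, fun K V _ _ _ _ _ f F q G H m p k c h => ?_⟩ <;>
    obtain ⟨e, he, h0, h1, hp⟩ := exists_pc c h
  · exact par_LR k.dim he h0 h1 hp
  · exact par_U k.u k.L k.dim he h0 hp
  · exact par_Sp k.sp (by have := k.dim; have := k.two; omega) he h0 hp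
  · exact par_O k.o (by have := k.dim; omega) he h0 hp

end Cfsg.Agent.TH.Cl
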