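import Cfsg.Agent.TH.Cl.Basic

/-!
# S3541, classical socles: Aschbacher's case division `BoxCases` (helper23)

The proofs follow `DS/Cl/Main.lean`.
-/

set_option autoImplicit false

namespace Cfsg.Agent.TH.Cl

open Cfsg.Agent.DS.Cl Cfsg.Agent.DS.Cl.Fwd Cfsg.Agent.SB.Cl Cfsg.Agent.DS.Cl.Main

namespace Cases

variable {A : Type} [Ring A] [StarRing A] [Finite A] {F : FR A} {M N : Subgroup (RingAut A)}

/-- the reducible case -/
theorem red (ss : SS A) (hle : M ≤ F.Aut) (hD : ∀ D : Finset A, Fr D → ¬ Inv M D) (hI : ¬ Irr M) :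
    ParD F M ∨ NSD F M := by
  classical
  have := ss.nontrivial
  have hS : M ≤ SAut A := hle.trans F.Aut_le_SAut
  obtain ⟨R, hR, hR2⟩ : ∃ R : Ideal A, Inv M R ∧ ¬ DS.Cl.Two R := by
    by_contra hcon
    exact hI fun R hR => not_not.1 fun h1 => hcon ⟨R, hR, h1⟩
  have hT : ∀ x ∈ R ⊓ perp R, ∀ y ∈ R ⊓ perp R, x * star y = 0 := fun x hx y hy => hy.2 x hx.1
  have hTi : Inv M (R ⊓ perp R : Ideal A) := fun γ hγ x hx => ⟨hR γ hγ x hx.1, inv_perp hS hR γ hγ x hx.2⟩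
  by_cases h0 : R ⊓ perp R = ⊥
  · obtain ⟨f, hf, hs, hi, h1⟩ := exists_symm_idem ss h0
    have hf0 : f ≠ 0 := fun e => hR2 fun x hx a => by
      rw [← h1 x hx, e, mul_zero, zero_mul]
      exact R.zero_mem
    have hf1 : 1 - f ≠ 0 := fun e => hR2 fun x _ a => by
      rw [← mul_one (x * a), sub_eq_zero.1 e]
      exact R.mul_mem_left _ hf
    have h2 : f * (1 - f) = 0 := by rw [mul_sub, mul_one, hi, sub_self]
    have h3 : (1 - f) * f = 0 := by rw [sub_mul, one_mul, hi, sub_self]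
    have hne : f ≠ 1 - f := fun e => hf0 (by rw [← hi]; nth_rewrite 2 [e]; exact h2)
    have hfix : ∀ γ ∈ M, γ f = f := by
      intro γ hγ
      have h4 := congrArg γ (h1 _ (hR _ (inv_mem hγ) f hf))
      rw [map_mul, ra_apply_inv] at h4
      have h5 := congrArg star h4
      rw [star_mul, ← hS hγ, hs, h1 _ (hR γ hγ f hf)] at h5
      exact h5
    refine absurd ?_ (hD {f, 1 - f} ⟨by rw [Finset.card_pair hne], ?_, ?_, ?_, ?_, by
      rw [Finset.sum_pair hne, add_sub_cancel]⟩)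
    · intro γ hγ x hx
      simp only [Finset.coe_insert, Finset.coe_singleton, Set.mem_insert_iff, Set.mem_singleton_iff] at hx ⊢
      rcases hx with rfl | rfl
      · exact Or.inl (hfix γ hγ)
      · exact Or.inr (by rw [map_sub, map_one, hfix γ hγ])
    · simp [hf0, hf1]
    · simp only [Finset.mem_insert, Finset.mem_singleton, forall_eq_or_imp, forall_eq]
      exact ⟨hi, by rw [mul_sub, mul_one, h3, sub_zero]⟩
    · simp [hs]
    · simp [h2, h3]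
  by_cases h1 : sing F _ hT = ⊥
  · refine Or.inr ⟨_, h0, hTi, hT, fun x hx hx' => ?_⟩
    have h2 : x ∈ sing F _ hT := ⟨hx, hx'⟩
    rwa [h1] at h2
  refine Or.inl ⟨_, h1, fun γ hγ x hx => ⟨hTi γ hγ x hx.1, ?_⟩, fun x hx y hy => hT x hx.1 y hy.1,
    fun x hx => hx.2, fun h2 => ?_⟩
  · have h2 := F.L.sub_mem (F.map_mem (hS hγ) hx.2) (F.conj_mem (hle hγ).2 (γ x))
    convert h2 using 1
    rw [map_mul, map_mul, hS hγ]
    noncomm_ring
  · rcases ss.two_cases (I := sing F _ hT) h2 with h3 | h3 | ⟨ε, hε, h3⟩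
    · exact h1 h3
    · have h4 : (1 : A) ∈ sing F _ hT := by rw [h3]; trivial
      simpa using hT 1 h4.1 1 h4.1
    · have h4 := ((h3 ε).2 hε.idem).1
      refine hR2 fun x hx a => ?_
      have h5 := h4.2 x hx
      rw [hε.star_eq, mul_sub, mul_one, sub_eq_zero] at h5
      rw [h5, mul_assoc, ← hε.comm, ← mul_assoc]
      exact R.mul_mem_left _ h4.1

/-- a proper invariant subring with the same centre -/
theorem ten_central (ss : SS A) (hle : M ≤ F.Aut) (hI : Irr2 M) {B : Subring A}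
    (h1 : Subring.center A ≤ B) (h2 : ¬ B ≤ Subring.center A) (hs : ∀ x ∈ B, star x ∈ B) (hB : Inv M B)
    (hZ : cenOf B ≤ Subring.center A) (hne : B ≠ ⊤) : TenD M := by
  have hS : M ≤ SAut A := hle.trans F.Aut_le_SAut
  obtain ⟨n, E, hE, hEm, hEc⟩ := exists_mu_sub (ss_of_inv ss hS hI.1.1 hI.1.2 hs hB)
  let C := Subring.centralizer (B : Set A)
  have hcoef : ∀ a i j, coef E a i j ∈ C := by
    intro a i j b hb
    rw [hE.expand b, Finset.sum_mul, Finset.mul_sum]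
    refine Finset.sum_congr rfl fun p _ => ?_
    rw [Finset.sum_mul, Finset.mul_sum]
    refine Finset.sum_congr rfl fun q _ => ?_
    have h3 : coef E b p q ∈ Subring.center A :=
      hZ ⟨coef_mem hEm hb p q, hEc _ (coef_mem hEm hb p q) (hE.coef_comm b p q)⟩
    rw [mul_assoc, ← hE.coef_comm, ← mul_assoc, ← mul_assoc, cen_comm h3]
  have hgen : ∀ X : Subring A, B ≤ X → C ≤ X → X = ⊤ := fun X h3 h4 => eq_top_iff.2 fun a _ => by
    rw [hE.expand a]
    exact X.sum_mem fun i _ => X.sum_mem fun j _ => X.mul_mem (h4 (hcoef a i j)) (h3 (hEm i j))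
  have hC := inv_centralizer hB
  refine ⟨hI, {B, C}, ⟨B, Or.inl rfl, C, Or.inr rfl, fun e => h2 fun x hx =>
    hZ ⟨hx, e.le hx⟩⟩, ?_, ?_, ?_, ?_, (hgen _ (fun x hx => Subring.subset_closure (Set.mem_biUnion (Or.inl rfl) hx))
      fun x hx => Subring.subset_closure (Set.mem_biUnion (Or.inr rfl) hx)), ?_⟩
  · rintro _ (rfl | rfl)
    · exact h1
    · exact fun x hx y _ => cen_comm hx y
  · rintro _ (rfl | rfl)
    · exact h2
    · exact fun h3 => hne (hgen _ le_rfl (h3.trans h1))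
  · rintro _ (rfl | rfl)
    · exact hs
    · exact star_centralizer hs
  · rintro _ (rfl | rfl) _ (rfl | rfl) e x hx y hy
    · exact absurd rfl e
    · exact hy x hx
    · exact (hx y hy).symm
    · exact absurd rfl e
  · rintro γ hγ _ (rfl | rfl)
    · exact Or.inl (map_eq_of (hB γ hγ) (hB _ (inv_mem hγ)))
    · exact Or.inr (map_eq_of (hC γ hγ) (hC _ (inv_mem hγ)))

/-- an absolutely irreducible non-abelian minimal normal subgroup which is not simple -/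
theorem ten_comp (hle : M ≤ F.Aut) (hI : Irr2 M) (hN : N ≤ F.PI)
    (h0 : N ≠ ⊥) (htop : alg F N = ⊤) {𝓣 : Set (Subgroup (RingAut A))} (hT : Comp M N 𝓣) (h1 : N ∉ 𝓣) : TenD M := by
  have hp : ∀ T ∈ 𝓣, T ≤ ⁅T, T⁆ := fun T hT' => perfect_of_simple (hT.simple T hT') (hT.noncomm T hT')
  have hcomm : ∀ T ∈ 𝓣, ∀ T' ∈ 𝓣, T ≠ T' → ∀ x ∈ alg F T, ∀ y ∈ alg F T', x * y = y * x := fun T h2 T' h3 e =>
    alg_comm ((hT.le T' h3).trans hN) (hp T' h3) (hT.comm T h2 T' h3 e)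
  refine ⟨hI, alg F '' 𝓣, ?_, ?_, ?_, ?_, ?_, ?_, ?_⟩
  · obtain ⟨T, h2⟩ : 𝓣.Nonempty := by
      by_contra hcon
      exact h0 (eq_bot_iff.2 (hT.gen ⊥ fun T h2 => absurd ⟨T, h2⟩ hcon))
    obtain ⟨T', h3, e⟩ : ∃ T' ∈ 𝓣, T' ≠ T := by
      by_contra hcon
      push Not at hcon
      exact h1 (le_antisymm (hT.le T h2) (hT.gen T fun T' h3 => (hcon T' h3).le) ▸ h2)
    refine ⟨_, ⟨T', h3, rfl⟩, _, ⟨T, h2, rfl⟩, fun e' => hT.noncomm T h2 (comm_of_alg ((hT.le T h2).trans hN) ?_)⟩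
    exact fun x hx => hcomm T' h3 T h2 e x (e' ▸ hx)
  · rintro _ ⟨T, -, rfl⟩
    exact cen_le_alg
  · rintro _ ⟨T, h2, rfl⟩
    have := hT.simple T h2
    exact alg_not_le ((hT.le T h2).trans hN) ((Subgroup.nontrivial_iff_ne_bot T).1 inferInstance)
  · rintro _ ⟨T, -, rfl⟩
    exact star_alg
  · rintro _ ⟨T, h2, rfl⟩ _ ⟨T', h3, rfl⟩ e
    exact hcomm T h2 T' h3 fun e' => e (by rw [e'])
  · set X := Subring.closure (⋃ B ∈ alg F '' 𝓣, (B : Set A))
    have hX : ∀ T ∈ 𝓣, alg F T ≤ X := fun T h2 x hx => Subring.subset_closure (Set.mem_biUnion ⟨T, h2, rfl⟩ hx)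
    obtain ⟨T, h2⟩ : 𝓣.Nonempty := by
      by_contra hcon
      exact h0 (eq_bot_iff.2 (hT.gen ⊥ fun T h2 => absurd ⟨T, h2⟩ hcon))
    have hc : Subring.center A ≤ X := cen_le_alg.trans (hX T h2)
    let W : Subgroup Aˣ :=
      { carrier := {u | (u : A) ∈ X ∧ ((u⁻¹ : Aˣ) : A) ∈ X}
        mul_mem' := fun ha hb => ⟨X.mul_mem ha.1 hb.1, by rw [mul_inv_rev]; exact X.mul_mem hb.2 ha.2⟩
        one_mem' := ⟨X.one_mem, X.one_mem⟩
        inv_mem' := fun ha => ⟨ha.2, ha.1⟩ }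
    have h3 : N ≤ W.map (DS.Cl.cj A) := hT.gen _ fun T h3 t ht => by
      obtain ⟨u, hu, rfl⟩ := hN (hT.le T h3 ht)
      exact ⟨u, ⟨hX T h3 (mem_alg hu ht), hX T h3 (mem_alg (inv_mem hu) (by rw [map_inv]; exact inv_mem ht))⟩, rfl⟩
    rw [eq_top_iff, ← htop]
    refine alg_le hc fun u _ hu => ?_
    obtain ⟨w, hw, e⟩ := h3 hu
    obtain ⟨z, hz, rfl⟩ := cj_eq_iff.1 e.symm
    exact X.mul_mem hw.1 (hc hz)
  · rintro γ hγ _ ⟨T, h2, rfl⟩
    exact ⟨_, hT.inv γ hγ T h2, (map_alg (hle hγ)).symm⟩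

end Cases

open Cases in
/-- **[C-Cases]** -/
theorem boxCases : BoxCases := by
  intro A _ _ _ F G H m p c
  have : Finite (RingAut A) := Finite.of_injective (fun γ : RingAut A => (γ : A → A)) DFunLike.coe_injective
  have hle := c.H_le_Aut
  by_cases hD : ∃ D : Finset A, Fr D ∧ Inv H D
  · exact Or.inr (Or.inr (Or.inl hD))
  replace hD : ∀ D : Finset A, Fr D → ¬ Inv H D := fun D h1 h2 => hD ⟨D, h1, h2⟩
  by_cases hI : ¬ Irr H
  · rcases red c.ss hle hD hI with h | h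
    · exact Or.inl h
    · exact Or.inr (Or.inl h)
  replace hI : Irr1 H := ⟨not_not.1 hI, hD⟩
  refine Or.inr (Or.inr (Or.inr ?_))
  by_cases hF : ∃ Z : Subring A, ComSub Z ∧ ¬ Z ≤ Subring.center A ∧ Inv H Z
  · exact Or.inl ⟨hI, hF⟩
  have hI2 : Irr2 H := ⟨hI, fun Z h1 h2 => not_not.1 fun h3 => hF ⟨Z, h1, h3, h2⟩⟩
  refine Or.inr ?_
  obtain ⟨N, hN, hmin⟩ := exists_minN (M := H) (K := H ⊓ F.S) (fun γ hγ s hs => c.conj_inf hγ hs) c.inf_ne_bot
  have hNP : N ≤ F.PI := (hN.trans inf_le_right).trans F.S_le_PI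
  have hB : Inv H (alg F N) := fun γ hγ => apply_mem_alg (hle hγ) (hmin.nrm γ hγ)
  have hZ : cenOf (alg F N) ≤ Subring.center A := hI2.2 _
    ⟨fun x hx => ⟨cen_le_alg hx, fun y _ => cen_comm hx y⟩,
      fun x hx => ⟨star_alg x hx.1, star_centralizer star_alg x hx.2⟩, fun x hx y hy => hy.2 x hx.1⟩ (inv_cenOf hB)
  by_cases htop : alg F N ≠ ⊤
  · exact Or.inl (ten_central c.ss hle hI2 cen_le_alg (alg_not_le hNP hmin.ne) star_alg hB hZ htop)
  replace htop := not_not.1 htop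
  by_cases hc : ∀ x ∈ N, ∀ y ∈ N, x * y = y * x
  · exact Or.inr (Or.inl ⟨hI2, N, hN, hmin, hc, htop⟩)
  · obtain ⟨𝓣, hT⟩ := hmin.exists_comp hc
    by_cases h1 : N ∈ 𝓣
    · exact Or.inr (Or.inr ⟨hI2, N, hN, hmin.nrm, hT.simple N h1, hT.noncomm N h1, htop⟩)
    · exact Or.inl (ten_comp hle hI2 hNP hmin.ne htop hT h1)

end Cfsg.Agent.TH.Cl
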