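import Cfsg.Agent.TH.Cl.Cases.Par

/-!
# S3541, classical socles: the box `BoxNS` (helper23)

Only orthogonal groups in characteristic two, `H` fixes a non-singular vector `w`.  The involution `r_w r_z` (`z ⊥ w`)
of `H ⊓ F.S` fixes only vectors orthogonal to `w`; UNI gives `b (g w) w = 0` for all `g`, false for `g = r_a r_w`.
-/

set_option autoImplicit false
set_option linter.unusedSectionVars false

namespace Cfsg.Agent.TH.Cl

open Cfsg.Agent.DS.Cl Cfsg.Agent.DS.Cl.Fwd Cfsg.Agent.SB.Cl Cfsg.Agent.SB.Tor Module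

namespace Cases

theorem ns_max {A : Type} [Ring A] [StarRing A] {F : FR A} {H : Subgroup (RingAut A)} (hL : F.L = Lmax A)
    (h : NSD F H) : False := by
  obtain ⟨R, h0, -, h1, h2⟩ := h
  refine h0 (eq_bot_iff.2 fun x hx => h2 x hx ?_)
  rw [hL]
  change star (x * F.l * star x) = -(x * F.l * star x)
  rw [star_mul, star_mul, star_star, ← mul_assoc, eq_neg_iff_add_eq_zero, ← add_mul, ← mul_add, add_comm, F.l_add,
    mul_one, h1 x hx x hx]

variable {K V : Type} [Field K] [Finite K] [AddCommGroup V] [Module K V] [Finite V] {h : HF K V} {F : FR h.EB}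
  {Q : QuadraticForm K V} (hO : IsO h F Q)
include hO

theorem Q_star (x : h.EB) (v : V) : h.b v (h.ap (x * F.l * star x) v) = Q (h.ap (star x) v) := by
  rw [h.ap_mul, h.ap_mul, ← h.star_b, hO.2.2.2]

theorem qr_smul {t : K} (ht : t ≠ 0) (v : V) : qr h (Q (t • v))⁻¹ (t • v) = qr h (Q v)⁻¹ v := h.ap_ext fun x => by
  rw [ap_qr, ap_qr, QuadraticMap.map_smul, h.smul_right, hO.1, smul_smul, smul_eq_mul]
  congr 2
  by_cases h0 : Q v = 0
  · simp [h0]
  · field_simp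

variable (h2 : (2 : K) = 0)
include h2

theorem b_self_two (v : V) : h.b v v = 0 := by rw [O_self hO, h2, zero_mul]

theorem refl_sq {v : V} {r : h.EBˣ} (hr : (r : h.EB) = qr h (Q v)⁻¹ v) : r * r = 1 := Units.ext (h.ap_ext fun x => by
  rw [Units.val_mul, h.ap_mul, hr, ap_qr, ap_qr, h.sub_left, h.smul_left, b_self_two hO h2, mul_zero, sub_zero,
    sub_sub, ← add_smul, ← two_mul, h2, zero_mul, zero_smul, sub_zero, Units.val_one, h.ap_one])

/-- in characteristic two the product of two reflections is a commutator -/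
theorem refl_mul_mem {a c : V} (ha : Q a ≠ 0) (hc : Q c ≠ 0) {r s : h.EBˣ} (hs' : s ∈ F.Iso)
    (hr : (r : h.EB) = qr h (Q a)⁻¹ a) (hs : (s : h.EB) = qr h (Q c)⁻¹ c) : DS.Cl.cj h.EB (r * s) ∈ F.S := by
  have : CharP K 2 := (CharP.charP_iff_prime_eq_zero Nat.prime_two).2 h2
  obtain ⟨t, ht⟩ := FiniteField.isSquare_of_char_two (ringChar.eq K 2) (Q c / Q a)
  have ht0 : t ≠ 0 := fun h0 => div_ne_zero hc ha (by rw [ht, h0, mul_zero])
  have h1 : Q c = Q (t • a) := by rw [QuadraticMap.map_smul, ← ht, smul_eq_mul, div_mul_cancel₀ _ ha]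
  obtain ⟨k, hk, hkc⟩ := witt_O hO (x := c) (y := t • a) (fun h0 => hc (by rw [h0, map_zero]))
    (fun h0 => hc (by rw [h1, h0, map_zero])) h1
  have h3 : r = k * s * k⁻¹ := Units.ext (by
    rw [Units.val_mul, Units.val_mul, hs, qr_conj h hk.1, hkc, h1, qr_smul hO ht0, hr])
  refine ⟨_, Subgroup.commutator_mem_commutator hk hs', ?_⟩
  rw [commutatorElement_def, ← h3, inv_eq_of_mul_eq_one_right (refl_sq hO h2 hs)]

omit h2 in
theorem exists_perp_ns (h3 : 3 ≤ finrank K V) (hb : ∀ v, h.b v v = 0) {a w : V} (haw : h.b a w ≠ 0) :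
    ∃ z, Q z ≠ 0 ∧ h.b z a = 0 ∧ h.b z w = 0 := by
  classical
  by_contra hcon
  push Not at hcon
  have hwa : h.b w a = h.b a w := O_symm hO w a
  obtain ⟨π, hπ⟩ : ∃ π : V → V, ∀ x, π x = x - (h.b x w / h.b a w) • a - (h.b x a / h.b a w) • w := ⟨_, fun _ => rfl⟩
  have p1 : ∀ x, h.b (π x) a = 0 := fun x => by
    rw [hπ, h.sub_left, h.sub_left, h.smul_left, h.smul_left, hb, hwa, div_mul_cancel₀ _ haw]
    ring
  have p2 : ∀ x, h.b (π x) w = 0 := fun x => by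
    rw [hπ, h.sub_left, h.sub_left, h.smul_left, h.smul_left, hb, div_mul_cancel₀ _ haw]
    ring
  have q0 : ∀ z, h.b z a = 0 → h.b z w = 0 → Q z = 0 := fun z a1 a2 => by
    by_contra h0
    exact hcon z h0 a1 a2
  have p3 : ∀ x, π x = 0 := fun x => h.nondeg _ fun y => by
    have h1 := O_add hO (π x) (π y)
    rw [q0 _ (p1 x) (p2 x), q0 _ (p1 y) (p2 y), q0 _ (by rw [h.add_left, p1, p1, add_zero])
      (by rw [h.add_left, p2, p2, add_zero]), zero_add, zero_add, hπ y, h.sub_right, h.sub_right, h.smul_right,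
      h.smul_right, p1, p2, mul_zero, mul_zero, sub_zero, sub_zero] at h1
    rw [O_symm hO, ← h1]
  have h1 : (⊤ : Submodule K V) ≤ Submodule.span K (({a, w} : Finset V) : Set V) := fun x _ => by
    have h4 := p3 x
    rw [hπ, sub_sub, sub_eq_zero] at h4
    rw [h4]
    exact Submodule.add_mem _ (Submodule.smul_mem _ _ (Submodule.subset_span (by simp)))
      (Submodule.smul_mem _ _ (Submodule.subset_span (by simp)))
  have : Module.Finite K V := Module.Finite.of_finite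
  have h4 := ((Submodule.finrank_mono h1).trans (finrank_span_finset_le_card _)).trans Finset.card_le_two
  rw [finrank_top] at h4
  omega

/-- the subspace is spanned by a non-singular vector -/
theorem line_of_ns {R : Ideal h.EB} (h1 : ∀ x ∈ R, ∀ y ∈ R, x * star y = 0)
    (hns : ∀ x ∈ R, x * F.l * star x ∈ F.L → x = 0) {x₀ : h.EB} (hx₀ : x₀ ∈ R) {v₀ : V}
    (hw : Q (h.ap (star x₀) v₀) ≠ 0) {x : h.EB} (hx : x ∈ R) (v : V) :
    ∃ t : K, h.ap (star x) v = t • h.ap (star x₀) v₀ := by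
  have : CharP K 2 := (CharP.charP_iff_prime_eq_zero Nat.prime_two).2 h2
  obtain ⟨w, hw0⟩ : ∃ w, w = h.ap (star x₀) v₀ := ⟨_, rfl⟩
  rw [← hw0] at hw ⊢
  obtain ⟨t, ht⟩ := FiniteField.isSquare_of_char_two (ringChar.eq K 2) (Q (h.ap (star x) v) / Q w)
  have h3 : h.b (h.ap (star x) v) w = 0 := by
    rw [h.star_b, hw0, ← h.ap_mul, h1 x hx x₀ hx₀, ap_zero, h.zero_right]
  have h4 : Q (h.ap (star x) v - t • w) = 0 := by
    rw [sub_eq_add_neg, ← neg_smul, O_add hO, QuadraticMap.map_smul, h.smul_right, h3, mul_zero, add_zero,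
      neg_mul_neg, ← ht, smul_eq_mul, div_mul_cancel₀ _ hw, ← two_mul, h2, zero_mul]
  have h5 : ∀ z, h.ap (star (star (h.eb (h.ro v w)) * x - star (h.eb (h.ro (t • v₀) w)) * x₀)) z =
      h.b z w • (h.ap (star x) v - t • w) := fun z => by
    rw [star_sub, star_mul, star_mul, star_star, star_star, h.ap_sub, h.ap_mul, h.ap_mul, h.ap_eb, h.ap_eb,
      h.ro_apply, h.ro_apply, map_smul, map_smul, map_smul, ← hw0, smul_sub]
  have h6 := hns _ (R.sub_mem (R.mul_mem_left (star (h.eb (h.ro v w))) hx)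
    (R.mul_mem_left (star (h.eb (h.ro (t • v₀) w))) hx₀)) ((mem_L_O hO _).2 fun z => by
      rw [Q_star hO, h5, QuadraticMap.map_smul, h4, smul_zero])
  obtain ⟨z, hz⟩ := h.exists_ne (v := w) fun h0 => hw (by rw [h0, map_zero])
  have h7 := h5 z
  rw [h6, star_zero, ap_zero, eq_comm, smul_eq_zero, sub_eq_zero] at h7
  exact ⟨t, h7.resolve_left hz⟩

omit h2 in
theorem ns_O (h3 : 3 ≤ finrank K V) {G H : Subgroup (RingAut h.EB)} {m p : ℕ} (c : Ctx F G H m p) (hp : (p : K) = 0)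
    (hN : NSD F H) : False := by
  obtain ⟨R, h0, hinv, h1, hns⟩ := hN
  obtain ⟨x₀, hx₀, hx₀'⟩ := Submodule.exists_mem_ne_zero_of_ne_bot h0
  obtain ⟨v₀, hw⟩ : ∃ v₀, Q (h.ap (star x₀) v₀) ≠ 0 := by
    by_contra hcon
    push Not at hcon
    exact hx₀' (hns x₀ hx₀ ((mem_L_O hO _).2 fun v => by rw [Q_star hO, hcon]))
  have h2 : (2 : K) = 0 := by
    have h4 := O_self hO (h.ap (star x₀) v₀)
    rw [h.star_b, ← h.ap_mul, h1 x₀ hx₀ x₀ hx₀, ap_zero, h.zero_right] at h4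
    exact (mul_eq_zero.1 h4.symm).resolve_right hw
  have hp2 : p = 2 := by
    have : CharP K 2 := (CharP.charP_iff_prime_eq_zero Nat.prime_two).2 h2
    exact ((Nat.prime_dvd_prime_iff_eq Nat.prime_two c.prime).1 ((CharP.cast_eq_zero_iff K 2 p).1 hp)).symm
  have hline := fun x hx v => line_of_ns hO h2 h1 hns hx₀ hw (x := x) hx v
  obtain ⟨w, hw0⟩ : ∃ w, w = h.ap (star x₀) v₀ := ⟨_, rfl⟩
  rw [← hw0] at hw hline
  have hb := b_self_two hO h2
  have hfix : ∀ u ∈ F.Iso, DS.Cl.cj h.EB u x₀ ∈ R → h.ap u w = w := fun u hu hx => by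
    obtain ⟨t, ht⟩ := hline _ hx (h.ap u v₀)
    rw [FR.Iso.cj_apply hu, star_mul, star_mul, star_star, h.ap_mul, h.ap_mul, ← FR.Iso.inv_eq hu, ap_inv_ap,
      ← hw0] at ht
    have h4 := (mem_Iso_O hO u).1 hu w
    rw [ht, QuadraticMap.map_smul, smul_eq_mul, mul_eq_right₀ hw] at h4
    have h5 : (t - 1) ^ 2 = 0 := by linear_combination h4 + (1 - t) * h2
    rw [ht, sub_eq_zero.1 (pow_eq_zero_iff two_ne_zero |>.1 h5), one_smul]
  obtain ⟨a₀, ha₀⟩ := h.exists_ne (v := w) fun h0 => hw (by rw [h0, map_zero])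
  obtain ⟨z, hz, hza, hzw⟩ := exists_perp_ns hO h3 hb ha₀
  obtain ⟨a, ha, haw⟩ : ∃ a, Q a ≠ 0 ∧ h.b a w ≠ 0 := by
    by_cases h4 : Q a₀ = 0
    · exact ⟨z + a₀, by rwa [O_add hO, h4, hza, add_zero, add_zero], by rwa [h.add_left, hzw, zero_add]⟩
    · exact ⟨a₀, h4, ha₀⟩
  obtain ⟨rw', i1, e1⟩ := exists_reflU hO hw
  obtain ⟨rz, i2, e2⟩ := exists_reflU hO hz
  obtain ⟨ra, i3, e3⟩ := exists_reflU hO ha
  have hwz : h.b w z = 0 := by rw [O_symm hO, hzw]
  have hy : ∀ x, h.ap (rw' * rz : h.EBˣ) x = x - ((Q z)⁻¹ * h.b x z) • z - ((Q w)⁻¹ * h.b x w) • w := fun x => by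
    rw [Units.val_mul, h.ap_mul, e1, e2, ap_qr, ap_qr, h.sub_left, h.smul_left, hzw, mul_zero, sub_zero]
  have hg : h.b (h.ap (ra * rw' : h.EBˣ) w) w ≠ 0 := by
    rw [Units.val_mul, h.ap_mul, e1, e3, ap_qr, ap_qr, hb, mul_zero, zero_smul, sub_zero, h.sub_left, h.smul_left,
      hb, zero_sub, O_symm hO w a]
    exact neg_ne_zero.2 (mul_ne_zero (mul_ne_zero (inv_ne_zero ha) haw) haw)
  have hyS := refl_mul_mem hO h2 hw hz i2 e1 e2
  have hgS := refl_mul_mem hO h2 ha hw i1 e3 e1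
  have hS : ¬ Inv F.S R := fun h4 => hg (by rw [hfix _ (mul_mem i3 i1) (h4 _ hgS x₀ hx₀), hb])
  have hyH : DS.Cl.cj h.EB (rw' * rz) ∈ H := by
    refine c.mem_of_inv hinv hS (c.S_le hyS) fun x hx => ?_
    have h4 : ((rw' * rz : h.EBˣ) : h.EB) * star x = star x := h.ap_ext fun v => by
      obtain ⟨t, ht⟩ := hline x hx v
      rw [h.ap_mul, ht, map_smul, hy, hwz, hb, mul_zero, mul_zero, zero_smul, zero_smul, sub_zero, sub_zero]
    have h5 := congrArg star h4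
    rw [star_mul, star_star] at h5
    rw [FR.Iso.cj_apply (mul_mem i1 i2), mul_assoc, h5]
    exact R.mul_mem_left _ hx
  have hyy : (rw' * rz) ^ 2 = 1 := Units.ext (h.ap_ext fun x => by
    rw [pow_two, Units.val_mul, h.ap_mul, hy, hy, h.sub_left, h.sub_left, h.sub_left, h.sub_left, h.smul_left,
      h.smul_left, h.smul_left, h.smul_left, hb, hb, hwz, hzw, Units.val_one, h.ap_one]
    simp only [mul_zero, sub_zero]
    linear_combination (norm := module) (-((Q z)⁻¹ * h.b x z) * h2) • z + (-((Q w)⁻¹ * h.b x w) * h2) • w)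
  have hY : IsPGroup p (Subgroup.zpowers (DS.Cl.cj h.EB (rw' * rz))) := by
    rintro ⟨_, k, rfl⟩
    refine ⟨1, Subtype.ext ?_⟩
    change (DS.Cl.cj h.EB (rw' * rz) ^ k) ^ p ^ 1 = 1
    rw [hp2, pow_one, ← zpow_natCast, ← zpow_mul, mul_comm, zpow_mul, zpow_natCast, ← map_pow, hyy, map_one, one_zpow]
  obtain ⟨β, hβ, h4⟩ := c.uni (M := H ⊓ F.S) (B := H ⊓ F.S) inf_le_left (fun _ ha _ hx => c.conj_inf ha hx) le_rfl
    (fun _ ha _ hx => c.conj_inf ha.1 hx) hY ((Subgroup.zpowers_le).2 ⟨hyH, hyS⟩) (c.S_le hgS)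
  obtain ⟨β, hβ', rfl⟩ := F.S_le_PI hβ.2
  have h5 := TH.mem_cj.1 (h4 ⟨_, Subgroup.mem_zpowers _, rfl⟩)
  change _ * (DS.Cl.cj h.EB β * _ * (DS.Cl.cj h.EB β)⁻¹) * _ ∈ H at h5
  rw [← map_inv, ← map_inv, ← map_mul, ← map_mul, ← map_mul, ← map_mul] at h5
  have h6 := hfix _ (mul_mem (mul_mem (inv_mem (mul_mem i3 i1)) (mul_mem (mul_mem hβ' (mul_mem i1 i2)) (inv_mem hβ')))
    (mul_mem i3 i1)) (hinv _ h5 x₀ hx₀)
  have h7 := hfix β hβ' (hinv _ hβ.1 x₀ hx₀)
  obtain ⟨g, hg'⟩ : ∃ g, g = ra * rw' := ⟨_, rfl⟩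
  obtain ⟨y, hy'⟩ : ∃ y, y = rw' * rz := ⟨_, rfl⟩
  rw [← hg'] at hg h6
  rw [← hy'] at hy h6
  obtain ⟨v, hv⟩ : ∃ v, v = h.ap (β⁻¹ : h.EBˣ) (h.ap g w) := ⟨_, rfl⟩
  have h8 : h.ap y v = v := by
    have h9 := congrArg (fun x => h.ap (β⁻¹ : h.EBˣ) (h.ap g x)) h6
    simp only [Units.val_mul, h.ap_mul, ap_ap_inv, ap_inv_ap] at h9
    rwa [← hv] at h9
  rw [hy, sub_sub, sub_eq_self] at h8
  have h9 := congrArg (fun x => h.b x a₀) h8
  simp only [h.add_left, h.smul_left, h.zero_left, hza, mul_zero, zero_add] at h9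
  have h10 : h.b v w = 0 := by
    rcases mul_eq_zero.1 h9 with h10 | h10
    · exact (mul_eq_zero.1 h10).resolve_left (inv_ne_zero hw)
    · exact absurd (by rw [O_symm hO, h10]) ha₀
  refine hg ?_
  rw [← (h.unit_iff β).1 hβ'.1, hv, ap_ap_inv, h7] at h10
  exact h10

end Cases

open Cases in
/-- **[C-NS]** -/
theorem boxNS : BoxNS :=
  ⟨fun _ _ _ _ F _ _ _ _ _ _ h => ns_max (L_eq_LR F) h,
    fun _ _ _ _ _ _ _ _ _ _ _ _ _ _ k _ h => ns_max k.L h,
    fun _ _ _ _ _ _ _ _ _ _ _ _ _ _ k _ h => ns_max k.sp.2.2 h,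
    fun K V _ _ _ _ _ f _ _ _ _ _ p k c h => by
      have h7 := k.dim
      have : Nontrivial V := Module.nontrivial_of_finrank_pos (R := K) (by omega)
      obtain ⟨v, hv⟩ := exists_ne (0 : V)
      have h1 : (p : Module.End K V) = 0 := c.char
      have h2 := LinearMap.congr_fun h1 v
      rw [Module.End.natCast_apply, ← Nat.cast_smul_eq_nsmul K, LinearMap.zero_apply, smul_eq_zero] at h2
      exact ns_O k.o (by omega) c (h2.resolve_right hv) h⟩

end Cfsg.Agent.TH.Cl
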