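import Cfsg.Agent.TH.Cl.Basic
import Cfsg.Agent.DS.Cl.Par

/-!
# S3541, classical socles: the parabolic case, ring level (helper23)

If `H` preserves a totally singular subspace, the unipotent radical meets `F.S` trivially (`O_p(H) = 1`), hence it is
centralised by the stabiliser of the subspace in the isometry group (`PC`).
-/

set_option autoImplicit false

namespace Cfsg.Agent.TH.Cl

open Cfsg.Agent.DS.Cl Cfsg.Agent.DS.Cl.Fwd Cfsg.Agent.SB.Cl

namespace Cases

variable {A : Type} [Ring A] [StarRing A]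

theorem UR_cube {F : FR A} {R : Ideal A} {u : Aˣ} (hu : u ∈ UR F R) : ((u : A) - 1) ^ 3 = 0 := by
  have h2 : ∀ r ∈ R, ((u : A) - 1) * star r = 0 := fun r hr => by
    have h3 := congrArg star ((inv_mem hu).2.1 r hr)
    rw [FR.Iso.inv_eq hu.1, star_mul, star_star] at h3
    rw [sub_mul, h3, one_mul, sub_self]
  have h3 := hu.2.1 _ (hu.2.2 _ h2)
  calc ((u : A) - 1) ^ 3 = (((u : A) - 1) * u - (u - 1)) * u - (((u : A) - 1) * u - (u - 1)) := by noncomm_ring
    _ = 0 := by rw [h3, sub_self]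

omit [StarRing A] in
theorem pow_eq_one_of_cube [Nontrivial A] {p : ℕ} (hp : p.Prime) (h0 : (p : A) = 0) {u : Aˣ}
    (hu : ((u : A) - 1) ^ 3 = 0) : u ^ p ^ 2 = 1 := by
  have : Fact p.Prime := ⟨hp⟩
  have : CharP A p := (CharP.charP_iff_prime_eq_zero hp).2 h0
  apply Units.ext
  have h1 := add_pow_char_pow_of_commute p 2 (Commute.one_left ((u : A) - 1))
  rw [add_sub_cancel, one_pow] at h1
  have h2 : 3 ≤ p ^ 2 := by nlinarith [hp.two_le]
  obtain ⟨k, hk⟩ := Nat.exists_eq_add_of_le h2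
  rw [Units.val_pow_eq_pow_val, h1, hk, pow_add, hu, zero_mul, add_zero, Units.val_one]

/-- the unipotent radical is centralised by the stabiliser in the isometry group -/
def PC (F : FR A) (e : A) : Prop := ∀ g ∈ F.Iso, ∀ u ∈ F.Iso, e * g * (1 - e) = 0 → e * ((u : A) - 1) = 0 →
  (1 - star e) * ((u : A) - 1) * (1 - e) = 0 → (g : A) * u = u * g

variable [Finite A] {F : FR A} {G H : Subgroup (RingAut A)} {m p : ℕ}

theorem exists_pc (c : Ctx F G H m p) (h : ParD F H) :
    ∃ e, Hyp F e ∧ e ≠ 0 ∧ (¬ ∀ a, e * a * (1 - e) = 0) ∧ PC F e := by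
  obtain ⟨R, h0, hinv, h1, h2, h3⟩ := h
  have := c.ss.nontrivial
  obtain ⟨e, heR, he, hR⟩ := exists_hyp c.ss F h1 h2
  have hS : ¬ Inv F.S R := fun h4 => h3 (FR.two_of_S c.span h4)
  have hN : (UR F R).map (DS.Cl.cj A) ⊓ F.S = ⊥ := by
    refine c.eq_bot_of_isPGroup (fun γ hγ => c.mem_of_inv hinv hS (c.S_le hγ.2) fun x hx => (cj_UR_stab hγ.1 x).1 hx)
      (fun a ha x hx => ⟨conj_mem_UR (c.H_le_Aut ha) (le_setStab hinv ha) hx.1, FR.conj_mem_S (c.H_le_Aut ha) hx.2⟩) ?_
    rintro ⟨_, ⟨u, hu, rfl⟩, hs⟩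
    refine ⟨2, Subtype.ext ?_⟩
    change DS.Cl.cj A u ^ p ^ 2 = 1
    rw [← map_pow, pow_eq_one_of_cube c.prime c.char (UR_cube hu), map_one]
  refine ⟨e, he, fun e0 => h0 (eq_bot_iff.2 fun x hx => by rw [← hR x hx, e0, mul_zero]; exact Ideal.zero_mem _),
    fun h4 => h3 fun x hx a => ?_, fun g hg u hu a1 a2 a3 => ?_⟩
  · have h5 := h4 a
    rw [mul_sub, mul_one, sub_eq_zero] at h5
    rw [← hR x hx, mul_assoc, h5, ← mul_assoc]
    exact R.mul_mem_left _ heR
  have hu' : u ∈ UR F R := by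
    refine ⟨hu, fun r hr => ?_, fun x hx => ?_⟩
    · rw [mul_sub, mul_one, sub_eq_zero] at a2
      rw [← hR r hr, mul_assoc, a2]
    · have h4 : x * u - x = x * ((1 - star e) * ((u : A) - 1)) := by
        rw [← mul_assoc, mul_sub x 1, hx e heR, mul_one, sub_zero, mul_sub, mul_one]
      rw [mul_sub _ 1, mul_one, sub_eq_zero] at a3
      rw [h4, a3, ← mul_assoc]
      exact R.mul_mem_left _ heR
  have hg' : DS.Cl.cj A g⁻¹ ∈ stab F (R : Set A) := by
    refine ⟨FR.cj_mem_Aut (inv_mem hg), fun x hx => ?_⟩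
    rw [mul_sub, mul_one, sub_eq_zero] at a1
    rw [cj_apply, inv_inv, ← hR x hx, mul_assoc, mul_assoc, a1, ← mul_assoc, ← mul_assoc]
    exact R.mul_mem_left _ heR
  have h4 : g⁻¹ * u * g ∈ UR F R := by
    have h5 := um_mem_UR hg'.1 (le_setStab (inv_stab F (R : Set A)) hg') hu'
    have h6 : um (DS.Cl.cj A g⁻¹) u = g⁻¹ * u * g := Units.ext (by rw [um_val, cj_apply, inv_inv]; rfl)
    rwa [h6] at h5
  have h5 : g⁻¹ * u * g * u⁻¹ ∈ UR F R := mul_mem h4 (inv_mem hu')
  have h6 : DS.Cl.cj A (g⁻¹ * u * g * u⁻¹) ∈ (UR F R).map (DS.Cl.cj A) ⊓ F.S := by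
    refine ⟨⟨_, h5, rfl⟩, ?_⟩
    have h7 := conj_mul_inv_mem F (g := DS.Cl.cj A g⁻¹) (s := DS.Cl.cj A u) ⟨_, inv_mem hg, rfl⟩ ⟨_, hu, rfl⟩
    rw [map_inv, inv_inv] at h7
    rw [map_mul, map_mul, map_mul, map_inv, map_inv]
    exact h7
  rw [hN, Subgroup.mem_bot, cj_eq_one_iff] at h6
  have h7 := SS_eq_zero c.ss (sub_mem h6 (one_mem _)) ⟨3, UR_cube h5⟩
  have h8 : g⁻¹ * u * g * u⁻¹ = 1 := Units.ext (sub_eq_zero.1 h7)
  rw [mul_inv_eq_one, mul_assoc, inv_mul_eq_iff_eq_mul] at h8
  exact (congrArg Units.val h8).symm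

variable {e : A}

/-- an isometry supported on the non-degenerate part -/
theorem PC.levi (h : PC F e) (he : Hyp F e) {g : Aˣ} (hg : g ∈ F.Iso) (h1 : e * ((g : A) - 1) = 0)
    (h2 : ((g : A) - 1) * e = 0) (h3 : ((g : A) - 1) * star e = 0) (x : A) : ((g : A) - 1) * x * e = 0 := by
  obtain ⟨a, ha⟩ : ∃ a, a = (1 - e - star e) * x * e := ⟨_, rfl⟩
  obtain ⟨b, hb⟩ : ∃ b, b = -(star a * F.l * a) := ⟨_, rfl⟩
  have ae : a * e = a := by rw [ha, mul_assoc, he.idem]
  have ea : e * a = 0 := by rw [ha, ← mul_assoc, ← mul_assoc]; simp [mul_sub, he.idem, he.ms]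
  have sa : star e * a = 0 := by rw [ha, ← mul_assoc, ← mul_assoc]; simp [mul_sub, he.sidem, he.sm]
  have sc : star e * star a = star a := by rw [← star_mul, ae]
  have be : b * e = b := by rw [hb, neg_mul, mul_assoc, ae]
  have sb : star e * b = b := by rw [hb, mul_neg, ← mul_assoc, ← mul_assoc, sc]
  have eb : e * b = 0 := by rw [← sb, ← mul_assoc, he.ms, zero_mul]
  have ce : star a * e = 0 := by rw [← star_star e, ← star_mul, sa, star_zero]
  have de : star b * e = star b := by rw [← star_star e, ← star_mul, sb]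
  have cb : star a * b = 0 := by rw [← sb, ← mul_assoc, ← star_mul, ea, star_zero, zero_mul]
  have da : star b * a = 0 := by rw [← de, mul_assoc, ea, mul_zero]
  have db : star b * b = 0 := by nth_rewrite 1 [← de]; rw [mul_assoc, eb, mul_zero]
  have hsb : star b = -(star a * star F.l * a) := by
    rw [hb, star_neg, star_mul, star_mul, star_star, mul_assoc]
  have rel : b + star b + star a * a = 0 := by
    rw [hsb, hb, F.star_l]
    noncomm_ring
  have e1 : e + a + b = (1 + a + b) * e := by rw [add_mul, add_mul, one_mul, ae, be]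
  have e2 : e * (e + a + b) = e := by rw [mul_add, mul_add, he.idem, ea, eb, add_zero, add_zero]
  have he' : Hyp F (e + a + b) := by
    refine ⟨?_, ?_, ?_, ?_, ?_⟩
    · nth_rewrite 1 [e1]
      rw [mul_assoc, e2, ← e1]
    · rw [e1, star_mul, mul_assoc, ← mul_assoc e, he.ms, zero_mul, mul_zero]
    · simp only [star_add, add_mul, mul_add, he.sm, sa, sb, ce, cb, de, da, db, zero_add, add_zero]
      rw [← rel]; abel
    · have h4 := F.conj_mem he.q1 (1 + a + b)
      rw [e1, star_mul]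
      simpa only [mul_assoc] using h4
    · have c1 := F.polar_mem (star e) (star a)
      have c2 := F.polar_mem (star e) (star b)
      have c3 := F.polar_mem (star a) (star b)
      have c4 := F.conj_mem he.q1 (star b)
      have c5 := F.sub_star_mem b
      simp only [star_star, ce, de, da, sub_zero] at c1 c2 c3 c4
      rw [← mul_assoc, ← mul_assoc, de, mul_assoc _ (star e), sb] at c4
      have c6 : star a * F.l * a + b = 0 := by rw [hb, add_neg_cancel]
      rw [star_add, star_add]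
      convert F.L.sub_mem (F.L.add_mem (F.L.add_mem (F.L.add_mem (F.L.add_mem c1 c2) c3) c4) he.q2) c5 using 1
      rw [← add_zero (_ - _), ← c6]
      noncomm_ring
  obtain ⟨u, hu, u1, u2, u3⟩ := he.trans he' e2 (by rw [e1, mul_assoc, he.idem])
  have u4 : (u : A) * e = e + a + b := by
    rw [← cj_mul_eq, u1, e1, mul_assoc, u2]
  have h4 := h g hg u hu (by
      have h5 : e * (g : A) = e := by rwa [mul_sub, mul_one, sub_eq_zero] at h1
      rw [h5, mul_sub, mul_one, he.idem, sub_self])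
    (by rw [mul_sub, u2, mul_one, sub_self]) (by
      have h5 := u3 (1 - star e) (by rw [sub_mul, one_mul, he.sidem, sub_self])
      rw [mul_sub (1 - star e), mul_one, mul_sub, mul_one, h5, sub_self])
  have h5 : ((g : A) - 1) * (e + a + b) = 0 := by
    have h6 : (g : A) * e = e := by rwa [sub_mul, one_mul, sub_eq_zero] at h2
    rw [← u4, sub_mul, ← mul_assoc, h4, mul_assoc, h6, one_mul, sub_self]
  rw [mul_add, mul_add, h2, ← sb, ← mul_assoc, h3, zero_mul, zero_add, add_zero, ha, ← mul_assoc, ← mul_assoc,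
    mul_sub, mul_sub, h2, h3, mul_one, sub_zero, sub_zero] at h5
  exact h5

omit [Finite A] in
theorem nil_levi (he : Hyp F e) {n : A} (h1 : e * n = n) (h2 : n * e = n) (h3 : n * n = 0) : Nil F n := by
  have h4 : star e * star n = star n := by rw [← star_mul, h2]
  have h5 : star n * star e = star n := by rw [← star_mul, h1]
  refine ⟨h3, ?_, ?_, ?_, ?_⟩
  · rw [← h2, star_mul, mul_assoc, ← mul_assoc e, he.ms, zero_mul, mul_zero]
  · rw [← h1, star_mul, mul_assoc, ← mul_assoc (star e), he.sm, zero_mul, mul_zero]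
  · have h6 := F.conj_mem he.q1 n
    rwa [← mul_assoc, ← mul_assoc, h2, mul_assoc _ (star e), h4] at h6
  · have h6 := F.conj_mem he.q2 (star n)
    rwa [star_star, ← mul_assoc, ← mul_assoc, h5, mul_assoc _ e, h1] at h6

omit [Finite A] in
/-- the centre of the radical and the linear part of the Levi factor -/
theorem PC.cen (h : PC F e) (he : Hyp F e) {u : Aˣ} (hu : u ∈ F.Iso) (h1 : star e * ((u : A) - 1) = u - 1)
    (h2 : ((u : A) - 1) * e = u - 1) {n : A} (n1 : e * n = n) (n2 : n * e = n) (n3 : n * n = 0) :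
    ((u : A) - 1) * n = -(star n * ((u : A) - 1)) := by
  have hn := nil_levi he n1 n2 n3
  obtain ⟨b, hb⟩ : ∃ b, b = (u : A) - 1 := ⟨_, rfl⟩
  have h4 : star e * star n = star n := by rw [← star_mul, n2]
  have h5 : e * star n = 0 := by rw [← h4, ← mul_assoc, he.ms, zero_mul]
  have h6 := h _ hn.unit_mem u hu (by
      rw [hn.unit_val, mul_add, mul_sub e, h5, n1, mul_one, sub_zero, mul_sub, add_mul e n e, he.idem, n2, mul_one,
        sub_self])
    (by rw [← h1, ← mul_assoc, he.ms, zero_mul]) (by rw [sub_mul 1, h1, one_mul, sub_self, zero_mul])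
  rw [← hb] at h1 h2 ⊢
  have h7 : n * b = 0 := by rw [← n2, ← h1, mul_assoc, ← mul_assoc e, he.ms, zero_mul, mul_zero]
  have h8 : b * star n = 0 := by rw [← h2, mul_assoc, h5, mul_zero]
  rw [hn.unit_val, show (u : A) = 1 + b by rw [hb, add_sub_cancel]] at h6
  simp only [mul_add, add_mul, mul_sub, sub_mul, one_mul, mul_one, h7, h8, zero_sub, sub_zero] at h6
  calc b * n = (1 + b + (n + b * n - (star n + 0))) - (1 + (n - star n) + b) := by abel
    _ = -(star n * b) := by rw [← h6]; abel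

end Cases

end Cfsg.Agent.TH.Cl
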